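import Groth.Agent.BrownRepW.Basic
import Groth.Agent.BrownRep.Main

/-!
# Brown representability: the main theorem
-/

set_option linter.style.haveILetI false
set_option linter.unusedSectionVars false

universe w v u

open CategoryTheory Limits Pretriangulated Category Opposite
open CategoryTheory.Pretriangulated.Opposite
open Groth.Agent.BrownRep (isIso_of_bijective)

namespace Groth.Agent.BrownRepW

variable {D : Type u} [Category.{v} D] [Preadditive D] [HasZeroObject D] [HasShift D ℤ]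
  [∀ n : ℤ, (shiftFunctor D n).Additive] [Pretriangulated D]

variable [HasCoproducts.{w} D] [HasColimitsOfShape (Discrete ℕ) D] [LocallySmall.{w} D]

/-- A class of objects containing `E` and closed under coproducts and cones. -/
structure IsClosed {ι : Type w} (E : ι → D) (P : D → Prop) : Prop where
  of : ∀ i, P (E i)
  sigma : ∀ {κ : Type w} (X : κ → D), (∀ k, P (X k)) → P (∐ X)
  sigmaNat : ∀ (X : ℕ → D), (∀ k, P (X k)) → P (∐ X)
  cone : ∀ T ∈ distTriang D, P T.obj₁ → P T.obj₂ → P T.obj₃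

section

variable (H : Dᵒᵖ ⥤ AddCommGrpCat.{v}) [H.IsHomological]
  [∀ κ : Type w, PreservesLimitsOfShape (Discrete κ) H]
  [PreservesLimitsOfShape (Discrete ℕ) H]
  {ι : Type w} (E : ι → D) [hsm : ∀ i, Small.{w} (El H (E i))]

/-- Objects in every class containing `E` closed under coproducts and cones. -/
def Built (X : D) : Prop := ∀ P, IsClosed E P → P X

theorem exists_step (p : Σ X : D, El H X) (hp : Built E p.1) :
    ∃ (p' : Σ X : D, El H X) (t : p.1 ⟶ p'.1), Built E p'.1 ∧ pb H t p'.2 = p.2 ∧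
      ∀ i (g : E i ⟶ p.1), pb H g p.2 = 0 → g ≫ t = 0 := by
  obtain ⟨X, a⟩ := p
  let c : (∐ fun q : {q : Σ i, Shrink.{w} (E i ⟶ X) // pb H (unsh q.2) a = 0} => E q.1.1) ⟶ X :=
    Limits.Sigma.desc fun q => unsh q.1.2
  obtain ⟨X', t, δ, hT⟩ := distinguished_cocone_triangle c
  obtain ⟨a', ha'⟩ := el_exact H _ hT a (el_ext H _ _ fun q => by
    refine ((pb_comp H (Sigma.ι _ q) c a).symm.trans ?_).trans (pb_map_zero H _).symm
    simpa [c] using q.2)
  refine ⟨⟨X', a'⟩, t, fun P hP => hP.cone _ hT (hP.sigma _ fun _ => hP.of _) (hp P hP), ha',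
    fun i g hg => ?_⟩
  have hu : unsh.{w} (equivShrink.{w} (E i ⟶ X) g) = g := (equivShrink _).symm_apply_apply g
  rw [← hu]
  refine ((congr_arg (· ≫ t)
    (Sigma.ι_desc (f := fun q : {q : Σ i, Shrink.{w} (E i ⟶ X) // pb H (unsh q.2) a = 0} => E q.1.1)
      (fun q => unsh q.1.2) ⟨⟨i, equivShrink _ g⟩, by rwa [hu]⟩)).symm.trans ?_)
  dsimp only
  rw [assoc]
  exact (congr_arg (_ ≫ ·) (comp_distTriang_mor_zero₁₂ _ hT)).trans comp_zero

/-- The main construction. -/
theorem exists_built (hE : Perfect E) (hsh : ∀ i (n : ℤ), ∃ j, Nonempty (E j ≅ (E i)⟦n⟧)) :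
    ∃ (Y : D) (aY : El H Y), Built E Y ∧
      ∀ i, Function.Bijective fun g : E i ⟶ Y => pb H g aY := by
  let P := {p : Σ X : D, El H X // Built E p.1}
  obtain ⟨a₀, ha₀⟩ := el_desc H (fun q : Σ i, Shrink.{w} (El H (E i)) => E q.1) fun q => (equivShrink _).symm q.2
  choose next t hnext ht hkill using fun p : P => exists_step H E p.1 p.2
  let seq : ℕ → P := Nat.rec
    ⟨⟨_, a₀⟩, fun Q hQ => hQ.sigma _ fun _ => hQ.of _⟩ fun _ p => ⟨next p, hnext p⟩
  obtain ⟨Y, p, δ, aY, hT, hb⟩ := exists_tower_colimit H hE hsh (fun n => (seq n).1.2)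
    (fun n => t (seq n)) (fun n => hkill (seq n)) (fun n => ht (seq n))
    (fun i b => ⟨_, (ha₀ ⟨i, equivShrink _ b⟩).trans ((equivShrink _).symm_apply_apply b)⟩)
  exact ⟨Y, aY, fun Q hQ =>
    hQ.cone _ hT (hQ.sigmaNat _ fun n => (seq n).2 Q hQ) (hQ.sigmaNat _ fun n => (seq n).2 Q hQ),
    hb⟩

end

omit [HasCoproducts.{w} D] [HasColimitsOfShape (Discrete ℕ) D] [LocallySmall.{w} D] in
/-- Representable presheaves of abelian groups turn small coproducts into products. -/
theorem preservesLimitsOfShape_preadditiveYoneda [UnivLE.{w, v}] (κ : Type w) (W : D) :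
    PreservesLimitsOfShape (Discrete κ) (preadditiveYoneda.obj W) := by
  haveI : HasLimitsOfSize.{w, w} AddCommGrpCat.{v} := AddCommGrpCat.hasLimitsOfSize
  haveI : PreservesLimitsOfShape (Discrete κ) (forget AddCommGrpCat.{v}) :=
    (inferInstance : PreservesLimitsOfSize.{w, w} (forget AddCommGrpCat.{v})).preservesLimitsOfShape
  haveI : ReflectsLimitsOfShape (Discrete κ) (forget AddCommGrpCat.{v}) :=
    reflectsLimitsOfShape_of_reflectsIsomorphisms
  haveI : PreservesLimitsOfShape (Discrete κ) (preadditiveYoneda.obj W ⋙ forget AddCommGrpCat.{v}) :=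
    inferInstanceAs (PreservesLimitsOfShape (Discrete κ) (yoneda.obj W))
  exact preservesLimitsOfShape_of_reflects_of_preserves _ (forget AddCommGrpCat.{v})

variable [UnivLE.{w, v}] {ι : Type w} {E : ι → D} (hE : Perfect E)
  (hsh : ∀ i (n : ℤ), ∃ j, Nonempty (E j ≅ (E i)⟦n⟧))
  (hdet : ∀ X : D, (∀ i (f : E i ⟶ X), f = 0) → IsZero X)

include hE hsh hdet in
/-- Every object is built from a perfect generating family. -/
theorem built (W : D) {P : D → Prop} (hP : IsClosed E P)
    (hiso : ∀ {X Y : D}, (X ≅ Y) → P X → P Y) : P W := by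
  haveI : ∀ κ : Type w, PreservesLimitsOfShape (Discrete κ) (preadditiveYoneda.obj W) :=
    fun κ => preservesLimitsOfShape_preadditiveYoneda κ W
  haveI := preservesLimitsOfShape_of_equiv
    (Discrete.equivalence (Equiv.ulift.{w} (α := ℕ))) (preadditiveYoneda.obj W)
  haveI : ∀ i, Small.{w} (El (preadditiveYoneda.obj W) (E i)) := fun i =>
    inferInstanceAs (Small.{w} (E i ⟶ W))
  obtain ⟨Y, f, hY, hb⟩ := exists_built (preadditiveYoneda.obj W) E hE hsh
  change Y ⟶ W at f
  haveI : IsIso f := isIso_of_bijective E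
    (fun C hC => hdet C fun i g => by
      rw [← cancel_mono ((shiftFunctorZero D ℤ).inv.app C), zero_comp]
      exact hC i 0 _) f fun i n => by
    obtain ⟨j, ⟨e⟩⟩ := hsh i (-n)
    let m : ∀ Z : D, (E i ⟶ Z⟦n⟧) ≃ (E j ⟶ Z) := fun Z =>
      (((shiftEquiv D n).symm.toAdjunction.homEquiv (E i) Z).symm).trans (e.symm.homFromEquiv)
    have hm : ∀ g : E i ⟶ Y⟦n⟧, m W (g ≫ f⟦n⟧') = m Y g ≫ f := fun g => by
      let adj := (shiftEquiv D n).symm.toAdjunction
      show e.hom ≫ (adj.homEquiv (E i) W).symm (g ≫ f⟦n⟧') =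
        (e.hom ≫ (adj.homEquiv (E i) Y).symm g) ≫ f
      rw [assoc]
      exact congr_arg (e.hom ≫ ·) (adj.homEquiv_naturality_right_symm g f)
    rw [show (fun g : E i ⟶ Y⟦n⟧ => g ≫ f⟦n⟧') = (m W).symm ∘ (fun g => g ≫ f) ∘ m Y from
      funext fun g => ((m W).eq_symm_apply).2 (hm g)]
    exact (m W).symm.bijective.comp ((hb j).comp (m Y).bijective)
  exact hiso (asIso f) (hY P hP)

variable (H : Dᵒᵖ ⥤ AddCommGrpCat.{v}) [H.IsHomological]
  [∀ κ : Type w, PreservesLimitsOfShape (Discrete κ) H]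
  [hsm : ∀ i, Small.{w} (El H (E i))]

include hE hsh hdet in
/-- Brown representability. -/
theorem isRepresentable : (H ⋙ forget AddCommGrpCat.{v}).IsRepresentable := by
  haveI := preservesLimitsOfShape_of_equiv (Discrete.equivalence (Equiv.ulift.{w} (α := ℕ))) H
  obtain ⟨Y, aY, -, hb⟩ := exists_built H E hE hsh
  let φ (X : D) (g : X ⟶ Y) : El H X := pb H g aY
  have φ_comp : ∀ {X X' : D} (h : X ⟶ X') (g : X' ⟶ Y), φ X (h ≫ g) = pb H h (φ X' g) :=
    fun h g => pb_comp H h g aY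
  have φ_iso : ∀ {X X' : D}, (X ≅ X') → Function.Bijective (φ X) → Function.Bijective (φ X') := by
    intro X X' e hX
    refine ⟨fun g g' hg => (cancel_epi e.hom).1 (hX.1 (by rw [φ_comp, φ_comp, hg])), fun b => ?_⟩
    obtain ⟨g, hg⟩ := hX.2 (pb H e.hom b)
    refine ⟨e.inv ≫ g, ?_⟩
    rw [φ_comp, hg, ← pb_comp, e.inv_hom_id, pb_id]
  have φ_sigma : ∀ {κ : Type w} (X : κ → D), (∀ k, Function.Bijective (φ (X k))) →
      Function.Bijective (φ (∐ X)) := by
    intro κ X hX
    refine ⟨fun g g' hg => Sigma.hom_ext _ _ fun k => (hX k).1 (by rw [φ_comp, φ_comp, hg]),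
      fun b => ?_⟩
    choose g hg using fun k => (hX k).2 (pb H (Sigma.ι X k) b)
    exact ⟨Limits.Sigma.desc g, el_ext H _ _ fun k => by rw [← φ_comp, Sigma.ι_desc, hg]⟩
  have φ_sigmaNat : ∀ (X : ℕ → D), (∀ k, Function.Bijective (φ (X k))) →
      Function.Bijective (φ (∐ X)) := by
    intro X hX
    refine ⟨fun g g' hg => Sigma.hom_ext _ _ fun k => (hX k).1 (by rw [φ_comp, φ_comp, hg]),
      fun b => ?_⟩
    choose g hg using fun k => (hX k).2 (pb H (Sigma.ι X k) b)
    exact ⟨Limits.Sigma.desc g, el_ext H _ _ fun k => by rw [← φ_comp, Sigma.ι_desc, hg]⟩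
  let Good : D → Prop := fun W => ∀ n : ℤ, Function.Bijective (φ (W⟦n⟧))
  have good_iso : ∀ {X X' : D}, (X ≅ X') → Good X → Good X' := fun e h n =>
    φ_iso ((shiftFunctor D n).mapIso e) (h n)
  have hclosed : IsClosed E Good := by
    refine ⟨fun i n => ?_, fun X hX n => ?_, fun X hX n => ?_, fun T hT h₁ h₂ n => ?_⟩
    · obtain ⟨j, ⟨e⟩⟩ := hsh i n
      exact φ_iso e (hb j)
    · exact φ_iso (PreservesCoproduct.iso (shiftFunctor D n) X).symm (φ_sigma _ fun k => hX k n)
    · exact φ_iso (PreservesCoproduct.iso (shiftFunctor D n) X).symm (φ_sigmaNat _ fun k => hX k n)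
    · have hS := Triangle.shift_distinguished _ hT n
      generalize hS' : (shiftFunctor (Triangle D) n).obj T = S at hS
      have b₁ : Function.Bijective (φ S.obj₁) := by subst hS'; exact h₁ n
      have b₂ : Function.Bijective (φ S.obj₂) := by subst hS'; exact h₂ n
      have b₁' : Function.Bijective (φ (S.obj₁⟦(1 : ℤ)⟧)) := by
        subst hS'
        exact φ_iso ((shiftFunctorAdd' D n 1 (n + 1) rfl).app T.obj₁) (h₁ (n + 1))
      have b₂' : Function.Bijective (φ (S.obj₂⟦(1 : ℤ)⟧)) := by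
        subst hS'
        exact φ_iso ((shiftFunctorAdd' D n 1 (n + 1) rfl).app T.obj₂) (h₂ (n + 1))
      suffices Function.Bijective (φ S.obj₃) by subst hS'; exact this
      have z : ∀ {X : D}, φ X 0 = 0 := pb_zero H aY
      refine ⟨fun g g' hgg => ?_, fun c => ?_⟩
      · suffices ∀ g : S.obj₃ ⟶ Y, φ _ g = 0 → g = 0 from
          sub_eq_zero.1 (this (g - g') (by
            show pb H (g - g') aY = 0
            rw [pb_sub]
            exact sub_eq_zero.2 hgg))
        intro g hg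
        obtain ⟨k, rfl⟩ := Triangle.yoneda_exact₃ S hS g (b₂.1 (by
          rw [φ_comp, hg, pb_map_zero, z]))
        obtain ⟨b, hb'⟩ : ∃ b, pb H (-(S.mor₁⟦(1 : ℤ)⟧')) b = φ _ k :=
          el_exact H _ (rot_of_distTriang _ (rot_of_distTriang _ hS)) _
            ((φ_comp S.mor₃ k).symm.trans hg)
        obtain ⟨l, rfl⟩ := b₂'.2 b
        rw [← φ_comp] at hb'
        rw [← b₁'.1 hb', ← assoc, Preadditive.comp_neg, comp_distTriang_mor_zero₃₁ _ hS, neg_zero,
          zero_comp]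
      · obtain ⟨g₂, hg₂⟩ := b₂.2 (pb H S.mor₂ c)
        obtain ⟨g, rfl⟩ := Triangle.yoneda_exact₂ S hS g₂ (b₁.1 (by
          rw [φ_comp, hg₂, ← pb_comp, comp_distTriang_mor_zero₁₂ _ hS, pb_zero, z]))
        obtain ⟨d, hd⟩ : ∃ d, pb H S.mor₃ d = c - φ _ g :=
          el_exact H _ (rot_of_distTriang _ hS) _ (by
            show pb H S.mor₂ _ = 0
            rw [pb_map_sub, ← hg₂, ← φ_comp, sub_self])
        obtain ⟨k, rfl⟩ := b₁'.2 d
        rw [← φ_comp] at hd
        refine ⟨g + S.mor₃ ≫ k, (pb_add H _ _ aY).trans ?_⟩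
        show φ _ g + φ _ (S.mor₃ ≫ k) = c
        rw [hd, add_sub_cancel]
  have hall : ∀ X : D, Function.Bijective (φ X) := fun X =>
    φ_iso ((shiftFunctorZero D ℤ).app X) (built hE hsh hdet X hclosed good_iso 0)
  exact ⟨⟨Y, ⟨{
    homEquiv := fun {X} => Equiv.ofBijective (φ X) (hall X)
    homEquiv_comp := fun f g => φ_comp f g }⟩⟩⟩

end Groth.Agent.BrownRepW
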