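import Groth.Agent.BrownRep.Coproduct
import Mathlib.CategoryTheory.EssentiallySmall

/-!
# Brown representability for perfectly generated triangulated categories
-/

set_option linter.style.haveILetI false
set_option linter.unusedSectionVars false

universe w v u

open CategoryTheory Limits Pretriangulated Category Opposite
open CategoryTheory.Pretriangulated.Opposite
open Groth.Agent.BrownRep (coproductTriangle_distinguished)

namespace Groth.Agent.BrownRepW

variable {D : Type u} [Category.{v} D] [Preadditive D] [HasZeroObject D] [HasShift D ℤ]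
  [∀ n : ℤ, (shiftFunctor D n).Additive] [Pretriangulated D]
  [HasCoproducts.{w} D] [HasColimitsOfShape (Discrete ℕ) D]
  (H : Dᵒᵖ ⥤ AddCommGrpCat.{v})

/-- The elements of a presheaf of abelian groups at an object. -/
abbrev El (X : D) : Type v := H.obj (op X)

/-- Pullback of elements. -/
noncomputable def pb {X Y : D} (g : X ⟶ Y) (a : El H Y) : El H X := (H.map g.op).hom a

theorem pb_comp {X Y Z : D} (f : X ⟶ Y) (g : Y ⟶ Z) (a : El H Z) :
    pb H (f ≫ g) a = pb H f (pb H g a) := by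
  simp [pb]

@[simp]
theorem pb_id {X : D} (a : El H X) : pb H (𝟙 X) a = a := by
  simp [pb]

theorem pb_map_add {X Y : D} (g : X ⟶ Y) (a b : El H Y) :
    pb H g (a + b) = pb H g a + pb H g b :=
  map_add (H.map g.op).hom a b

theorem pb_map_sub {X Y : D} (g : X ⟶ Y) (a b : El H Y) :
    pb H g (a - b) = pb H g a - pb H g b :=
  map_sub (H.map g.op).hom a b

@[simp]
theorem pb_map_zero {X Y : D} (g : X ⟶ Y) : pb H g 0 = 0 :=
  map_zero (H.map g.op).hom

variable [H.IsHomological]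

instance additive_of_isHomological : H.Additive := by
  haveI : PreservesBinaryBiproducts H := preservesBinaryBiproducts_of_preservesBinaryProducts H
  exact Functor.additive_of_preservesBinaryBiproducts H

theorem pb_add {X Y : D} (f g : X ⟶ Y) (a : El H Y) :
    pb H (f + g) a = pb H f a + pb H g a := by
  simp [pb, op_add, Functor.map_add]

theorem pb_sub {X Y : D} (f g : X ⟶ Y) (a : El H Y) :
    pb H (f - g) a = pb H f a - pb H g a := by
  rw [eq_sub_iff_add_eq, ← pb_add, sub_add_cancel]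

@[simp]
theorem pb_zero {X Y : D} (a : El H Y) : pb H (0 : X ⟶ Y) a = 0 := by
  simp [pb]

theorem pb_neg {X Y : D} (g : X ⟶ Y) (a : El H Y) : pb H (-g) a = -pb H g a := by
  rw [eq_neg_iff_add_eq_zero, ← pb_add, neg_add_cancel, pb_zero]

theorem el_exact (T : Triangle D) (hT : T ∈ distTriang D) (a : El H T.obj₂)
    (ha : pb H T.mor₁ a = 0) : ∃ b : El H T.obj₃, pb H T.mor₂ b = a :=
  (ShortComplex.ab_exact_iff _).1 (H.map_distinguished_op_exact T hT) a ha

variable [∀ κ : Type w, PreservesLimitsOfShape (Discrete κ) H]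
  [PreservesLimitsOfShape (Discrete ℕ) H]

/-- Elements at a coproduct are families of elements. -/
theorem el_sigma_bijective {κ : Type*} (X : κ → D) [HasCoproduct X]
    [PreservesLimitsOfShape (Discrete κ) H] :
    Function.Bijective (fun (a : El H (∐ X)) k => pb H (Sigma.ι X k) a) := by
  haveI := preservesLimit_of_iso_diagram (forget AddCommGrpCat.{v})
    (Iso.refl ((Discrete.functor fun k => op (X k)) ⋙ H))
  have hlim := isLimitOfPreserves (H ⋙ forget AddCommGrpCat.{v})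
    (Cofan.IsColimit.op (coproductIsCoproduct X))
  constructor
  · intro a b hab
    exact (Types.isLimitEquivSections hlim).injective (Subtype.ext (funext fun k => congr_fun hab k.as))
  · intro f
    obtain ⟨a, ha, -⟩ := (Types.isLimit_iff _).1 ⟨hlim⟩ (fun k => f k.as) (fun {i j} g => by
      obtain ⟨i⟩ := i
      obtain ⟨j⟩ := j
      obtain rfl : i = j := Discrete.eq_of_hom g
      simp [Discrete.functor])
    exact ⟨a, funext fun k => ha ⟨k⟩⟩

theorem el_ext {κ : Type*} {X : κ → D} [HasCoproduct X]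
    [PreservesLimitsOfShape (Discrete κ) H] (a b : El H (∐ X))
    (h : ∀ k, pb H (Sigma.ι X k) a = pb H (Sigma.ι X k) b) : a = b :=
  (el_sigma_bijective H X).1 (funext h)

theorem el_desc {κ : Type*} (X : κ → D) [HasCoproduct X]
    [PreservesLimitsOfShape (Discrete κ) H] (f : ∀ k, El H (X k)) :
    ∃ a : El H (∐ X), ∀ k, pb H (Sigma.ι X k) a = f k :=
  ⟨_, congr_fun ((el_sigma_bijective H X).2 f).choose_spec⟩

variable {ι : Type w} (E : ι → D)

/-- Morphisms indexed by a small type. -/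
noncomputable abbrev unsh [LocallySmall.{w} D] {X Y : D} (q : Shrink.{w} (X ⟶ Y)) : X ⟶ Y := (equivShrink _).symm q

/-- Perfectness of a family with respect to countable coproducts. -/
def Perfect : Prop :=
  ∀ (X : ℕ → D) (i : ι) (α : E i ⟶ ∐ X), ∃ (j : ℕ → ι) (β : ∀ n, E (j n) ⟶ X n)
    (γ : E i ⟶ ∐ (fun n => E (j n))), α = γ ≫ Limits.Sigma.map β

variable {E}

theorem lift_of_covers (hE : Perfect E) {Q X : ℕ → D} (c : ∀ n, Q n ⟶ X n)
    (hc : ∀ n i (g : E i ⟶ X n), ∃ l, l ≫ c n = g) {i : ι} (α : E i ⟶ ∐ X) :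
    ∃ ξ : E i ⟶ ∐ Q, ξ ≫ Limits.Sigma.map c = α := by
  obtain ⟨j, β, γ, rfl⟩ := hE X i α
  choose l hl using fun n => hc n (j n) (β n)
  refine ⟨γ ≫ Limits.Sigma.map l, ?_⟩
  rw [assoc]
  congr 1
  exact Sigma.hom_ext _ _ fun n => by simp [reassoc_of% (hl n)]

theorem kill_of_kernel (hE : Perfect E) {Q X : ℕ → D} (c : ∀ n, Q n ⟶ X n) {W : D}
    (R : (∐ Q) ⟶ W) (hR : ∀ n i (ρ : E i ⟶ Q n), ρ ≫ c n = 0 → ρ ≫ Sigma.ι Q n ≫ R = 0)
    {i : ι} (ξ : E i ⟶ ∐ Q) (hξ : ξ ≫ Limits.Sigma.map c = 0) : ξ ≫ R = 0 := by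
  choose F f g hT using fun n => distinguished_cocone_triangle₁ (c n)
  let T : ℕ → Triangle D := fun n => Triangle.mk (f n) (c n) (g n)
  obtain ⟨η, hη⟩ : ∃ η : E i ⟶ ∐ F, ξ = η ≫ Limits.Sigma.map f :=
    Triangle.coyoneda_exact₂ _ (coproductTriangle_distinguished T hT) ξ hξ
  obtain ⟨j, β, γ, rfl⟩ := hE F i η
  rw [hη, assoc, assoc]
  have : Limits.Sigma.map β ≫ Limits.Sigma.map f ≫ R = 0 := Sigma.hom_ext _ _ fun n => by
    have h0 := hR n (j n) (β n ≫ f n) (by
      rw [assoc]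
      exact (congr_arg (β n ≫ ·) (comp_distTriang_mor_zero₁₂ _ (hT n))).trans comp_zero)
    simpa using h0
  rw [this, comp_zero]

/-- Composition of the transition maps of a tower. -/
noncomputable def composite {X : ℕ → D} (t : ∀ n, X n ⟶ X (n + 1)) : ∀ k, X 0 ⟶ X k
  | 0 => 𝟙 _
  | k + 1 => composite t k ≫ t k

variable [LocallySmall.{w} D]

variable (hE : Perfect E) (hsh : ∀ i (n : ℤ), ∃ j, Nonempty (E j ≅ (E i)⟦n⟧))

section Tower

variable {X : ℕ → D} (a : ∀ n, El H (X n)) (t : ∀ n, X n ⟶ X (n + 1))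
  (hkill : ∀ n i (g : E i ⟶ X n), pb H g (a n) = 0 → g ≫ t n = 0)
  (ht : ∀ n, pb H (t n) (a (n + 1)) = a n)
  (hsurj : ∀ i (b : El H (E i)), ∃ g : E i ⟶ X 0, pb H g (a 0) = b)

/-- `1 - shift`. -/
noncomputable def oneSubShift : (∐ X) ⟶ ∐ X :=
  Limits.Sigma.desc fun n => Sigma.ι X n - t n ≫ Sigma.ι X (n + 1)

include ht in
theorem pb_composite (k : ℕ) : pb H (composite t k) (a k) = a 0 := by
  induction k with
  | zero => simp [composite]
  | succ k ih => rw [composite, pb_comp, ht, ih]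

include hE hkill ht hsurj in
theorem tower_aux :
    (∀ i (α : E i ⟶ ∐ X), α ≫ oneSubShift t = 0 → α = 0) ∧
    ∀ {Y : D} (p : (∐ X) ⟶ Y) (_ : oneSubShift t ≫ p = 0) (aY : El H Y)
      (_ : ∀ n, pb H (Sigma.ι X n ≫ p) aY = a n) i (α : E i ⟶ ∐ X),
      pb H (α ≫ p) aY = 0 → α ≫ p = 0 := by
  let κ : ℕ → Type w := fun n => Σ i, Shrink.{w} (E i ⟶ X n)
  let S : ∀ n, κ n → D := fun n q => E q.1
  let Q : ℕ → D := fun n => ∐ S n
  let c : ∀ n, Q n ⟶ X n := fun n => Limits.Sigma.desc fun q => unsh q.2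
  have hc : ∀ n i (g : E i ⟶ X n), ∃ l, l ≫ c n = g := fun n i g =>
    ⟨Sigma.ι (S n) ⟨i, equivShrink _ g⟩, (Sigma.ι_desc _ _).trans ((equivShrink _).symm_apply_apply g)⟩
  choose lft hlft using fun n (q : κ n) => hsurj q.1 (pb H (unsh q.2) (a n))
  let w : ∀ n, Q n ⟶ X 0 := fun n => Limits.Sigma.desc (lft n)
  have hw : ∀ n, pb H (w n) (a 0) = pb H (c n) (a n) := fun n => el_ext H _ _ fun q => by
    rw [← pb_comp, ← pb_comp]
    simp only [w, c, Sigma.ι_desc]
    exact hlft n q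
  have same : ∀ n m (f g : Q n ⟶ X m), pb H f (a m) = pb H g (a m) → f ≫ t m = g ≫ t m := by
    intro n m f g hfg
    refine Sigma.hom_ext _ _ fun q => ?_
    rw [← sub_eq_zero, ← Preadditive.comp_sub, ← Preadditive.sub_comp, ← assoc]
    refine hkill m _ _ ?_
    rw [pb_comp, pb_sub, hfg, sub_self, pb_map_zero]
  have hs : ∀ n m (f g : Q n ⟶ X 0), pb H f (a 0) = pb H g (a 0) →
      f ≫ composite t (m + 1) = g ≫ composite t (m + 1) := by
    intro n m f g hfg
    induction m with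
    | zero => simpa [composite] using same n 0 f g hfg
    | succ m ih =>
      show f ≫ composite t (m + 1) ≫ t (m + 1) = g ≫ composite t (m + 1) ≫ t (m + 1)
      rw [reassoc_of% ih]
  have hct : ∀ n, c n ≫ t n = w n ≫ composite t (n + 1) := fun n => by
    rw [show composite t (n + 1) = composite t n ≫ t n from rfl, ← assoc]
    refine same n n _ _ ?_
    rw [pb_comp H (w n), pb_composite H a t ht, hw]
  let R : (∐ Q) ⟶ ∐ X := Limits.Sigma.desc fun n =>
    -∑ k ∈ Finset.range n, w n ≫ composite t (k + 1) ≫ Sigma.ι X (k + 1)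
  choose l hl using fun n (q : κ n) => hc (n + 1) q.1 (unsh q.2 ≫ t n)
  let L : ∀ n, Q n ⟶ Q (n + 1) := fun n => Limits.Sigma.desc (l n)
  have hL : ∀ n, L n ≫ c (n + 1) = c n ≫ t n := fun n => Sigma.hom_ext _ _ fun q => by
    simp only [L, c, Sigma.ι_desc_assoc]
    exact hl n q
  have hLw : ∀ n, pb H (L n ≫ w (n + 1)) (a 0) = pb H (w n) (a 0) := fun n => by
    rw [pb_comp, hw, ← pb_comp, hL, pb_comp, ht, hw]
  let M : (∐ Q) ⟶ ∐ Q := Limits.Sigma.desc fun n => Sigma.ι Q n - L n ≫ Sigma.ι Q (n + 1)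
  have hM : M ≫ Limits.Sigma.map c = Limits.Sigma.map c ≫ oneSubShift t :=
    Sigma.hom_ext _ _ fun n => by
      simp [M, oneSubShift, reassoc_of% (hL n)]
  have hMR : ∀ n, Sigma.ι Q n ≫ M ≫ R = c n ≫ t n ≫ Sigma.ι X (n + 1) := fun n => by
    simp only [M, R, Sigma.ι_desc_assoc, Preadditive.sub_comp, assoc, Sigma.ι_desc,
      Preadditive.comp_neg, Preadditive.comp_sum]
    have : ∀ k, L n ≫ w (n + 1) ≫ composite t (k + 1) ≫ Sigma.ι X (k + 1) =
        w n ≫ composite t (k + 1) ≫ Sigma.ι X (k + 1) := fun k => by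
      have h1 := hs n k _ _ (hLw n)
      rw [assoc] at h1
      rw [reassoc_of% h1]
    simp only [this]
    rw [Finset.sum_range_succ, reassoc_of% (hct n)]
    abel
  refine ⟨fun i α hα => ?_, fun {Y} p hp aY haY i α hg => ?_⟩
  · obtain ⟨ξ, rfl⟩ := lift_of_covers hE c hc α
    have hker : ∀ n i (ρ : E i ⟶ Q n), ρ ≫ c n = 0 → ρ ≫ Sigma.ι Q n ≫ R = 0 := by
      intro n i ρ hρ
      simp only [R, Sigma.ι_desc, Preadditive.comp_neg, Preadditive.comp_sum, neg_eq_zero]
      refine Finset.sum_eq_zero fun k _ => ?_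
      have h0 : ρ ≫ w n ≫ t 0 = 0 := by
        rw [← assoc]
        exact hkill 0 _ _ (by rw [pb_comp, hw, ← pb_comp, hρ, pb_zero])
      have : ∀ k, ρ ≫ w n ≫ composite t (k + 1) = 0 := fun k => by
        induction k with
        | zero => simpa [composite] using h0
        | succ k ih =>
          show ρ ≫ w n ≫ composite t (k + 1) ≫ t (k + 1) = 0
          rw [reassoc_of% ih, zero_comp]
      rw [reassoc_of% (this k), zero_comp]
    have h1 : (ξ ≫ M) ≫ R = 0 := kill_of_kernel hE c R hker _ (by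
      rw [assoc, hM, ← assoc, hα])
    have h2 : M ≫ R = Limits.Sigma.map c ≫
        Limits.Sigma.desc (fun n => t n ≫ Sigma.ι X (n + 1)) :=
      Sigma.hom_ext _ _ fun n => by simp [hMR n]
    rw [assoc, h2, ← assoc] at h1
    have h3 : oneSubShift t = 𝟙 _ - Limits.Sigma.desc (fun n => t n ≫ Sigma.ι X (n + 1)) :=
      Sigma.hom_ext _ _ fun n => by simp [oneSubShift]
    rw [h3, Preadditive.comp_sub, comp_id, h1, sub_zero] at hα
    exact hα
  · obtain ⟨ξ, rfl⟩ := lift_of_covers hE c hc α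
    have hpn : ∀ n, t n ≫ Sigma.ι X (n + 1) ≫ p = Sigma.ι X n ≫ p := fun n => by
      have := congr_arg (Sigma.ι X n ≫ ·) hp
      simp [oneSubShift, sub_eq_zero] at this
      exact this.symm
    have hcomp : ∀ k, composite t k ≫ Sigma.ι X k ≫ p = Sigma.ι X 0 ≫ p := fun k => by
      induction k with
      | zero => simp [composite]
      | succ k ih => rw [composite, assoc, hpn, ih]
    have h1 : Limits.Sigma.map c ≫ p = Limits.Sigma.desc w ≫ Sigma.ι X 0 ≫ p :=
      Sigma.hom_ext _ _ fun n => by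
        simp only [Sigma.ι_map_assoc, Sigma.ι_desc_assoc]
        rw [← hpn n, reassoc_of% (hct n), hcomp]
    rw [assoc, h1, ← assoc] at hg ⊢
    rw [pb_comp, haY] at hg
    have h0 := hkill 0 i _ hg
    rw [← hpn 0, ← assoc, h0, zero_comp]

include hE hsh hkill ht hsurj in
theorem exists_tower_colimit :
    ∃ (Y : D) (p : (∐ X) ⟶ Y) (δ : Y ⟶ (∐ X)⟦(1 : ℤ)⟧) (aY : El H Y),
      Triangle.mk (oneSubShift t) p δ ∈ distTriang D ∧
      ∀ i, Function.Bijective fun g : E i ⟶ Y => pb H g aY := by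
  obtain ⟨hinj, hker⟩ := tower_aux H hE a t hkill ht hsurj
  obtain ⟨Y, p, δ, hT⟩ := distinguished_cocone_triangle (oneSubShift t)
  obtain ⟨aX, haX⟩ := el_desc H X a
  obtain ⟨aY, haY⟩ : ∃ aY, pb H p aY = aX := el_exact H _ hT aX (el_ext H _ _ fun n => by
    show pb H (Sigma.ι X n) (pb H (oneSubShift t) aX) = pb H (Sigma.ι X n) 0
    rw [← pb_comp, pb_map_zero, oneSubShift, Sigma.ι_desc, pb_sub, pb_comp, haX, haX, ht,
      sub_self])
  have haY' : ∀ n, pb H (Sigma.ι X n ≫ p) aY = a n := fun n => by rw [pb_comp, haY, haX]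
  refine ⟨Y, p, δ, aY, hT, fun i => ⟨fun g₁ g₂ hg => ?_, fun b => ?_⟩⟩
  · suffices ∀ g : E i ⟶ Y, pb H g aY = 0 → g = 0 from
      sub_eq_zero.1 (this (g₁ - g₂) (by rw [pb_sub]; exact sub_eq_zero.2 hg))
    intro g hg0
    obtain ⟨j, ⟨e⟩⟩ := hsh i (-1)
    let u := shiftShiftNeg (∐ X) (1 : ℤ)
    have h1 : g ≫ δ = 0 := by
      apply (shiftFunctor D (-1 : ℤ)).map_injective
      rw [Functor.map_zero, ← cancel_epi e.hom, ← cancel_mono u.hom, comp_zero, zero_comp]
      refine hinj j _ ?_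
      have h2 : (g ≫ δ) ≫ (oneSubShift t)⟦(1 : ℤ)⟧' = 0 := by
        rw [assoc]
        exact (congr_arg (g ≫ ·) (comp_distTriang_mor_zero₃₁ _ hT)).trans comp_zero
      simp only [assoc]
      rw [show u.hom ≫ oneSubShift t =
          ((oneSubShift t)⟦(1 : ℤ)⟧')⟦(-1 : ℤ)⟧' ≫ u.hom from
          (shift_shift_neg' (oneSubShift t) (1 : ℤ)).symm ▸ by simp [u]]
      rw [← Functor.map_comp_assoc, h2, Functor.map_zero, zero_comp, comp_zero]
    obtain ⟨α, rfl⟩ : ∃ α, g = α ≫ p := Triangle.coyoneda_exact₃ _ hT g h1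
    exact hker p (comp_distTriang_mor_zero₁₂ _ hT) aY haY' i α hg0
  · obtain ⟨g, rfl⟩ := hsurj i b
    exact ⟨g ≫ Sigma.ι X 0 ≫ p, by
      show pb H (g ≫ Sigma.ι X 0 ≫ p) aY = _
      rw [pb_comp, haY']⟩

end Tower

end Groth.Agent.BrownRepW
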